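import Cfsg.Agent.TAB.Th.Key
import Cfsg.Agent.TAB.Th.Bes
import Cfsg.Agent.TAB.Co.Fin
import Cfsg.Agent.TAB.Use.Main

/-!
# The character table of the Thompson group from the types (helper98, TAB)
-/

set_option autoImplicit false
set_option maxRecDepth 100000

namespace Cfsg.Agent.TAB.Th

open Cfsg Cfsg.Agent.TAB.Eng Cfsg.Agent.TAB.Co Cfsg.Agent.TAB.Use

/-- the rational irreducible characters -/
def rowA : List (List ℤ) :=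
  [[1, 1, 1, 1, 1, 1, 1, 1, 1, 1, 1, 1, 1, 1, 1, 1, 1, 1, 1, 1, 1, 1, 1, 1, 1, 1, 1, 1, 1, 1, 1, 1, 1, 1, 1, 1, 1, 1,
     1],
    [248, -8, 14, 5, -4, 8, 0, -2, 4, -2, 1, 3, 0, 0, 5, -4, 2, 2, 2, -1, 0, 1, -1, 1, 1, -2, 1, 0, 0, 0, 0, 2, -1, 1,
     -1, 0, -1, -1, 1],
    [4123, 27, 64, -8, 1, 27, -5, -2, 9, 0, 0, 7, 3, -1, -8, 1, 4, 2, 0, 0, 1, 2, -1, 1, 0, 0, 0, 0, 1, 0, -1, -2, 1,
     -1, -1, 0, 0, 0, -1],
    [30628, -92, 91, 10, 10, 36, 4, 3, 10, -5, -2, 3, -4, 0, 10, 10, 1, 3, 3, 0, -2, 0, -1, 0, -2, 1, 0, -1, 0, -1, 0,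
     1, 1, 1, 0, 0, 0, 0, 0],
    [30875, 155, 104, 14, 5, 27, -5, 0, 5, 8, 2, 5, 3, -1, 14, 5, 2, 0, 0, 0, 1, 0, 1, 0, 2, 2, 0, 0, -1, 0, -1, 2,
     -1, -1, 0, -1, 0, 0, 0],
    [61256, 72, 182, 20, 20, 56, 0, 6, 12, 6, 0, 6, 0, 0, -7, -7, 2, 2, 2, 2, 0, 0, 2, 0, -3, 0, 0, 0, 0, 0, 0, -1,
     -1, 0, 2, 0, -1, -1, 0],
    [147250, 50, 181, -8, -35, 34, 10, 0, 5, 5, -4, 5, 2, -2, 19, -8, 1, 0, 1, -2, 1, -1, 1, 0, -1, -1, 0, 0, -1, -1,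
     1, 1, 1, -1, 0, 0, 1, 1, -1],
    [957125, -315, 650, -52, -25, 133, 5, 0, 15, -6, 0, 8, -3, 1, -25, 2, 2, 0, -2, -2, -1, 0, 0, 0, 3, 0, 0, 0, -1,
     0, 1, -1, -1, 0, 0, 0, 1, 1, 0],
    [2450240, 832, 260, 71, 44, 64, 0, -10, 4, 4, -5, -5, 0, 0, 17, -10, -1, 2, 4, 1, 0, 0, -1, -1, 1, 1, 0, 0, 1, 0,
     0, -1, -1, 1, -1, 0, 1, 1, 0],
    [2572752, -1072, 624, 111, 84, 48, 0, 2, -4, -16, -1, 7, 0, 0, 30, 3, 3, -2, 0, 3, 0, 0, -1, -1, 2, -1, 0, 0, 1,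
     0, 0, 0, 0, -1, 1, 0, 0, 0, 0],
    [3376737, 609, 819, 9, 9, 161, 1, -13, 9, 3, -3, 0, 1, 1, 9, 9, 0, -1, -1, -1, 1, 0, 0, -1, -3, 0, 0, 1, 0, 1, 1,
     0, 0, 0, -1, 0, -1, -1, 0],
    [4123000, 120, 118, 19, -80, 8, 0, 0, 0, 6, 3, -7, 0, 0, 19, 1, 4, 0, 2, -1, 0, -2, 1, 0, 3, 0, 0, 0, -1, 0, 0,
     -2, 1, 1, 0, 0, -1, -1, 1],
    [4881384, 1512, 729, 0, 0, 72, 24, 9, 0, 9, 0, 4, 8, 0, 0, 0, 0, -3, -3, 0, 0, 1, 0, 0, 0, 0, -1, -1, 1, -1, 0, 0,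
     0, 2, 0, 0, 0, 0, 1],
    [4936750, -210, 637, -38, -65, 126, -10, 0, 15, -3, 6, 0, -2, 2, 16, -11, -2, 0, -3, 0, -1, 0, 0, 0, 0, 0, -1, 0,
     0, 1, -1, 1, 1, 0, 0, 0, 0, 0, 0],
    [10822875, -805, 924, 141, -75, 91, -5, 0, 5, -4, 5, 0, 3, -1, -21, 6, -3, 0, 4, 1, 1, -2, 0, 0, -1, -1, 0, 0, 0,
     0, -1, 0, 0, 0, 0, 0, 1, 1, 1],
    [11577384, 552, 351, 135, 0, -120, 24, 9, 0, 15, 3, 7, -8, 0, 0, 0, 0, -3, 3, -3, 0, 0, -1, 0, 0, 0, 0, -1, 1, 1,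
     0, 0, 0, -1, 0, 0, 0, 0, 0],
    [16539120, 2544, 0, 297, -54, 48, 16, -5, -6, 0, -3, 3, 0, 0, 0, 0, 0, -1, 0, 3, -2, 0, 3, 1, 0, 0, 0, 1, 0, 0, 0,
     0, 0, -1, -1, 0, 0, 0, 0],
    [18154500, 1540, -273, 213, -30, -28, 20, 0, 10, -17, 1, 0, -4, 0, -3, -3, -3, 0, -1, -1, 2, 0, 0, 0, 1, 1, 0, 0,
     0, -1, 0, 0, 0, 0, 0, 1, -1, -1, 0],
    [28861000, 840, 1078, -110, 160, 56, 0, 0, 0, 6, -6, 0, 0, 0, -29, -2, -2, 0, 2, 2, 0, -1, 0, 0, 3, 0, 0, 0, 0, 0,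
     0, 1, 1, 0, 0, 0, -1, -1, -1],
    [30507008, 0, 896, -184, 32, 0, 0, 8, 0, 0, 0, 0, 0, 0, 32, 5, -4, 0, 0, 0, 0, -1, 0, 2, 0, 0, 0, 0, 0, 0, 0, -1,
     -1, 0, 0, 1, 0, 0, -1],
    [40199250, 3410, -78, 3, 165, -62, 10, 0, 5, 2, -1, -7, -6, 2, 3, 3, 3, 0, -2, 1, 1, 0, 1, 0, -1, -1, 0, 0, -1, 0,
     -1, 0, 0, 1, 0, 0, 1, 1, 0],
    [44330496, 3584, 168, 6, -156, 0, 0, -4, -4, 8, 2, 0, 0, 0, 6, 6, -3, 4, 0, 0, 0, 2, 0, -1, 2, -1, 0, 0, 0, 0, 0,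
     0, 0, 0, 1, 0, 0, 0, -1],
    [51684750, 2190, 0, 108, 135, -162, -10, 0, 15, 0, 12, -9, 6, -2, 0, 0, 0, 0, 0, 0, -1, 0, -1, 0, 0, 0, 0, 0, 0,
     0, 1, 0, 0, -1, 0, 0, 0, 0, 0],
    [72925515, -2997, 0, 0, 0, 27, 51, 15, 0, 0, 0, -9, 3, 3, 0, 0, 0, 3, 0, 0, 0, 0, -1, 0, 0, 0, 0, 1, 0, 0, 0, 0,
     0, -1, 0, -1, 0, 0, 0],
    [76271625, -2295, 729, 0, 0, 153, -15, 0, 0, 9, 0, -11, -7, -3, 0, 0, 0, 0, -3, 0, 0, 1, 1, 0, 0, 0, 1, 0, 1, -1,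
     0, 0, 0, -1, 0, 0, 0, 0, 1],
    [77376000, 2560, 1560, -60, -60, 0, 0, 0, -20, -8, 4, 2, 0, 0, -6, -6, 3, 0, 0, 0, 0, 0, -2, 0, -2, 1, 1, 0, -1,
     0, 0, 0, 0, 0, 0, 0, 0, 0, 0],
    [81153009, -783, -729, 0, 0, 225, 9, 9, 0, -9, 0, -7, 1, -3, 0, 0, 0, -3, 3, 0, 0, 2, 1, 0, 0, 0, 0, -1, -1, 1, 0,
     0, 0, 1, 0, 0, 0, 0, -1],
    [91171899, 315, 0, 243, 0, -21, -45, 24, 0, 0, -9, 0, 3, 3, 0, 0, 0, 0, 0, -3, 0, 0, 0, 0, 0, 0, 0, 0, 0, 0, 0, 0,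
     0, 0, 0, 0, 0, 0, 0],
    [111321000, 3240, -1728, -216, 0, 216, 0, 0, 0, 0, 0, 7, 0, 0, 0, 0, 0, 0, 0, 0, 0, -2, -1, 0, 0, 0, 0, 0, 1, 0,
     0, 0, 0, -1, 0, 0, 0, 0, 1],
    [190373976, -3240, 0, 0, 0, -216, 0, -24, 0, 0, 0, 9, 0, 0, 0, 0, 0, 0, 0, 0, 0, 0, 1, 0, 0, 0, -1, 0, 0, 0, 0, 0,
     0, 1, 0, 0, 0, 0, 0]]

/-- the sums of the pairs -/
def rowB : List (List ℤ) :=
  [[54000, 240, -54, 54, 0, 16, 0, 0, 0, -6, 6, 2, 0, 0, 0, 0, 0, 0, -2, -2, 0, -2, 2, 0, 0, 0, 2, 0, 2, 0, 0, 0, 0,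
     2, 0, -2, 4, -2, -2],
    [171990, -42, 0, -54, 54, -42, 22, -10, 6, 0, -6, 0, 6, -2, 0, 0, 0, -2, 0, -6, -2, 0, 0, -1, 0, 0, 2, 2, 0, 0,
     -2, 0, 0, 0, 1, 2, 0, 0, 0],
    [1535274, 810, 0, 0, 0, -54, -6, 24, 0, 0, 0, 6, -6, -6, 0, 0, 0, 0, 0, 0, 0, 0, -2, 0, 0, 0, -2, 4, 0, 0, 0, 0,
     0, 2, 0, -1, 0, 0, 0],
    [1558494, -546, -378, -108, 0, 126, -18, -6, 0, 6, 12, 0, -2, 6, 0, 0, 0, -6, 6, 0, 0, 2, 0, 0, 0, 0, 0, 2, 0, -2,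
     0, 0, 0, 0, 0, 0, 0, 0, -1],
    [3414528, -1536, 0, -108, 108, 0, 0, 28, -12, 0, 12, 12, 0, 0, 0, 0, 0, 4, 0, 0, 0, 0, 4, -2, 0, 0, 0, 0, 0, 0, 0,
     0, 0, 0, -2, 2, 0, 0, 0],
    [8192000, 0, 128, -16, -160, 0, 0, 0, 0, 0, 0, -16, 0, 0, -16, 2, 8, 0, 0, 0, 0, -2, 0, 0, 0, 0, -2, 0, 2, 0, 0,
     2, -1, 0, 0, 2, 0, 0, -2],
    [13338000, -2160, -702, 216, 0, 112, 0, 0, 0, 18, 0, 4, 0, 0, 0, 0, 0, 0, -2, 4, 0, 0, -4, 0, 0, 0, 0, 0, -2, 0,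
     0, 0, 0, 0, 0, 2, 4, -2, 0],
    [13392000, -1920, -756, 270, 0, 128, 0, 0, 0, 12, 6, 6, 0, 0, 0, 0, 0, 0, -4, 2, 0, -2, -2, 0, 0, 0, 2, 0, 0, 0,
     0, 0, 0, 2, 0, 0, -4, 2, -2],
    [42653520, 336, 0, -270, -216, -336, 0, 20, 24, 0, -6, 0, 0, 0, 0, 0, 0, -4, 0, 6, 0, 0, 0, -1, 0, 0, 2, 0, 0, 0,
     0, 0, 0, 0, -1, 0, 0, 0, 0]]

/-- the constant one -/
def one : List ℤ := List.replicate 39 1

/-- the number of square roots -/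
def sd1 : List ℤ := [976841776, 12336, 7372, 730, 82, 1008, 80, 26, 90, 12, 6, 22, 0, 0, 82, 1, 10, 6, 12, 0, 2, 1, 2, 2, 6, 0, 1, 0,
    1, 0, 0, 1, 1, 0, 0, 1, 0, 0, 1]

/-- the number of cube roots -/
def sd2 : List ℤ := [717890163201, 240129, 0, 3645, 0, 6273, 321, 201, 0, 0, 45, 57, 33, 9, 0, 81, 0, 9, 0, 9, 0, 3, 1, 0, 0, 0, 1, 1,
    0, 0, 0, 0, 0, 1, 0, 1, 0, 0, 0]

/-- permutation character on the cosets of a cyclic group `36A` -/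
def sd3 : List ℤ := [2520720663552000, 2580480, 0, 26244, 0, 21504, 0, 0, 0, 0, 36, 0, 0, 0, 972, 0, 0, 0, 0, 12, 0, 0, 0, 0, 12, 0,
    0, 0, 0, 0, 0, 0, 0, 0, 0, 0, 12, 0, 0]

/-- permutation character on the cosets of a cyclic group `36BC` -/
def sd4 : List ℤ := [2520720663552000, 2580480, 0, 26244, 0, 21504, 0, 0, 0, 0, 36, 0, 0, 0, 972, 0, 0, 0, 0, 12, 0, 0, 0, 0, 12, 0,
    0, 0, 0, 0, 0, 0, 0, 0, 0, 0, 0, 6, 0]

/-- the seeds -/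
def seeds : List (List ℤ) := [chi, sd1, sd2, sd3, sd4]

/-- the primes and the sections -/
def PL : List (ℕ × ℕ × List ℕ) := [(2, 15, [0, 2, 3, 4, 7, 11, 14, 16, 23]), (3, 10, [0, 1, 5, 6, 7, 11, 12, 13, 17, 21]), (5, 3, [0, 1, 4, 6, 8]),
    (7, 2, [0, 1, 2, 5]), (13, 1, [0, 2]), (19, 1, [0]), (31, 1, [0])]

/-- the certificates -/
def CL : List (ℕ × ℕ × List Cert) :=
  [(2, 15, [⟨0, [.one, .gen 0 1 0, .mul 0 0, .gen 2 1 0, .gen 0 1 1, .lin [(15992, 3), (22577, 2)], .lin [(1, 4)], .lin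
     [(14043, 6), (20285, 3), (9362, 2)], .lin [(1, 3)], .lin [(1, 8)]], [(5, 1), (4, 4), (3, 16), (2, 8), (0, 128)]⟩,
    ⟨2, [.one, .gen 0 1 0, .mul 0 0, .gen 0 3 0, .lin [(6156, 2), (4104, 1), (29177, 0)], .lin [(24966, 3), (20285,
     2)], .lin [(1, 4)], .lin [(1, 6)]], [(3, 1), (2, 2), (0, 8), (1, 64)]⟩,
    ⟨3, [.one, .gen 0 1 0, .mul 0 0, .lin [(20485, 2), (16388, 1), (28671, 0)], .lin [(10923, 3), (10923, 2)], .lin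
     [(1, 4)]], [(2, 1), (0, 2), (1, 8)]⟩,
    ⟨4, [.one, .gen 0 1 0, .gen 1 1 0, .mul 0 0, .lin [(28968, 2), (31374, 1), (25273, 0)], .lin [(24575, 3)], .lin
     [(2, 5), (16383, 3)], .lin [(1, 6)]], [(2, 1), (3, 2), (0, 4), (1, 16)]⟩,
    ⟨7, [.one, .gen 0 1 0, .mul 0 0, .lin [(2, 1), (1, 0)], .lin [(16383, 2)], .lin [(1, 4)]], [(2, 1), (0, 2), (1,
     8)]⟩,
    ⟨11, [.one, .gen 0 1 0, .mul 0 0, .lin [(3, 2), (32764, 1), (1, 0)], .lin [(32767, 3), (1, 2)], .lin [(1, 4)]],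
     [(2, 1), (0, 2), (1, 8)]⟩,
    ⟨14, [.one, .gen 0 1 0, .mul 0 0, .gen 4 1 0, .lin [(20485, 3), (16388, 2), (28671, 1)], .lin [(10923, 4), (10923,
     3)], .lin [(10923, 2)], .lin [(1, 6)]], [(2, 1), (3, 2), (0, 2), (1, 8)]⟩,
    ⟨16, [.one, .gen 1 1 0, .lin [(2, 1), (29491, 0)], .lin [(1, 2)]], [(0, 1), (1, 2)]⟩,
    ⟨23, [.one, .gen 0 1 0, .lin [(16385, 1), (16383, 0)], .lin [(1, 2)]], [(0, 1), (1, 2)]⟩]),
   (3, 10, [⟨1, [.one, .gen 0 1 0, .mul 0 0, .mul 1 0, .gen 1 1 0, .gen 3 1 0, .lin [(17092, 5), (6828, 4), (3423, 3), (2141,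
     2), (36909, 0)], .lin [(45824, 6), (31139, 5), (33638, 4), (54753, 1)], .lin [(29517, 7), (44283, 6), (44287, 3),
     (20914, 2)], .lin [(3028, 8), (1514, 7), (38609, 4)], .lin [(19684, 9), (39365, 8)], .lin [(1, 10)]], [(4, 1), (5,
     3), (1, 3), (2, 3), (0, 9), (3, 81)]⟩,
    ⟨5, [.one, .gen 0 1 0, .mul 0 0, .gen 3 1 0, .gen 4 1 0, .lin [(39859, 4), (10097, 3), (58798, 2), (51669, 1),
     (44289, 0)], .lin [(5971, 4), (26539, 3), (57335, 2), (55621, 1)], .lin [(29525, 2)], .lin [(44287, 4)], .lin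
     [(44287, 6)]], [(1, 1), (3, 3), (4, 3), (0, 3), (2, 27)]⟩,
    ⟨6, [.one, .gen 1 1 0, .lin [(57538, 1), (757, 0)], .lin [(1, 2)]], [(0, 1), (1, 3)]⟩,
    ⟨7, [.one, .gen 0 1 0, .lin [(2, 1), (1, 0)], .lin [(1, 2)]], [(0, 1), (1, 3)]⟩,
    ⟨11, [.one, .gen 0 1 0, .lin [(3, 1), (39365, 0)], .lin [(1, 2)]], [(0, 1), (1, 3)]⟩,
    ⟨12, [.one, .gen 2 1 0, .lin [(3, 1), (44734, 0)], .lin [(1, 2)]], [(0, 1), (1, 3)]⟩,
    ⟨13, [.one, .gen 1 2 0, .lin [(57538, 1), (757, 0)], .lin [(1, 2)]], [(0, 1), (1, 3)]⟩,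
    ⟨17, [.one, .gen 0 1 0, .lin [(39368, 1), (39365, 0)], .lin [(1, 2)]], [(0, 1), (1, 3)]⟩,
    ⟨21, [.one, .gen 2 1 0, .lin [(3, 1), (39365, 0)], .lin [(1, 2)]], [(0, 1), (1, 3)]⟩]),
   (5, 3, [⟨0, [.one, .lin [(1, 0)]], [(0, 1)]⟩,
    ⟨1, [.one, .gen 0 1 0, .lin [(4, 1), (63, 0)], .lin [(1, 2)]], [(0, 1), (1, 5)]⟩,
    ⟨4, [.one, .gen 0 1 0, .lin [(4, 1), (1, 0)], .lin [(1, 2)]], [(0, 1), (1, 5)]⟩,
    ⟨6, [.one, .gen 1 1 0, .lin [(5, 1), (14, 0)], .lin [(1, 2)]], [(0, 1), (1, 5)]⟩,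
    ⟨8, [.one, .gen 0 1 0, .lin [(104, 1), (99, 0)], .lin [(1, 2)]], [(0, 1), (1, 5)]⟩]),
   (7, 2, [⟨0, [.one, .lin [(1, 0)]], [(0, 1)]⟩,
    ⟨1, [.one, .gen 0 1 0, .lin [(8, 1), (1, 0)], .lin [(1, 2)]], [(0, 1), (1, 7)]⟩,
    ⟨2, [.one, .gen 0 1 0, .lin [(7, 1), (10, 0)], .lin [(1, 2)]], [(0, 1), (1, 7)]⟩,
    ⟨5, [.one, .gen 0 1 0, .lin [(15, 1), (41, 0)], .lin [(1, 2)]], [(0, 1), (1, 7)]⟩]),
   (13, 1, [⟨0, [.one, .lin [(1, 0)]], [(0, 1)]⟩,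
    ⟨2, [.one, .lin [(1, 0)]], [(0, 1)]⟩]),
   (19, 1, [⟨0, [.one, .lin [(1, 0)]], [(0, 1)]⟩]),
   (31, 1, [⟨0, [.one, .lin [(1, 0)]], [(0, 1)]⟩])]

/-- first step in the section of the identity for the prime three -/
def ce1 : Cert := ⟨0, [.one, .gen 0 1 0, .mul 0 0, .mul 1 0, .mul 2 0, .gen 1 1 0, .mul 4 0, .gen 2 1 0, .gen 0 1 1, .mul 7 0, .lin
    [(57148, 9), (39637, 8), (45711, 7), (50859, 6), (50571, 5), (36776, 4), (40661, 3), (249, 2)], .lin [(28855, 10),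
    (27202, 9), (5717, 8), (8442, 7), (268, 5), (45390, 3), (58245, 2)], .lin [(54311, 11), (14325, 10), (50082, 9),
    (31019, 8), (5905, 4)], .lin [(6576, 12), (18595, 11), (18583, 10), (4376, 4), (56861, 3)], .lin [(59048, 13),
    (29524, 12), (29525, 11)], .lin [(19685, 14), (19684, 13), (1, 6)], .lin [(39368, 15), (39365, 14)], .lin [(1,
    16)]], [(7, 1), (8, 3), (6, 3), (4, 9), (5, 27), (1, 81), (3, 81), (0, 243)]⟩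

/-- second step -/
def ce2 : Cert := ⟨0, [.one, .gen 0 1 0, .mul 0 0, .mul 1 0, .gen 2 1 0, .gen 5 1 0, .mul 4 0, .mul 5 0, .mul 2 2, .gen 0 1 1, .lin
    [(43482, 9), (48995, 8), (2827, 7), (10427, 6), (7734, 5), (18814, 4), (37832, 3), (5905, 2)], .lin [(53809, 10),
    (58998, 9), (15759, 8), (7886, 7), (53680, 6), (1342, 5), (57707, 2)], .lin [(39385, 11), (4916, 10), (54133, 9),
    (49217, 6), (9832, 5), (49217, 2)], .lin [(13120, 12), (26244, 11), (42647, 10), (59048, 7), (29525, 6)], .lin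
    [(59048, 13), (29524, 12), (29525, 11)], .lin [(1, 14), (1, 9)], .lin [(39368, 15), (39365, 14)], .lin [(1, 16)]],
    [(7, 1), (8, 3), (6, 3), (4, 9), (5, 27), (1, 27), (3, 81), (0, 243)]⟩

/-- third step -/
def ce3 : Cert := ⟨0, [.one, .gen 0 1 0, .mul 0 0, .mul 1 0, .mul 2 0, .gen 5 1 0, .mul 4 0, .mul 1 1, .gen 6 1 0, .gen 0 1 1, .lin
    [(46352, 9), (35496, 8), (30135, 7), (9149, 6), (15330, 5), (17454, 4), (12264, 3), (17067, 2), (46161, 1)], .lin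
    [(44287, 10), (33215, 9), (25834, 8), (51668, 5), (7381, 4), (18149, 2), (51668, 1)], .lin [(18169, 3)], .lin
    [(13120, 12), (26244, 11), (42647, 10), (59048, 7), (29525, 6)], .lin [(59048, 13), (29524, 12), (29525, 11)],
    .lin [(1, 14), (1, 9)], .lin [(39368, 15), (39365, 14)], .lin [(1, 16)]], [(7, 1), (8, 3), (6, 3), (4, 9), (5,
    27), (1, 27), (3, 27), (0, 243)]⟩

/-- signs and rows of the first step -/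
def sg1 : List (ℤ × ℕ) := [(1, 5), (-1, 6), (-1, 7), (-1, 8), (1, 13), (-1, 17), (1, 19), (1, 25)]

/-- signs and rows of the second step -/
def sg2 : List (ℤ × ℕ) := [(1, 15), (-1, 16), (1, 22), (-1, 28), (1, 30), (1, 31), (1, 33), (-1, 34), (1, 36), (-1, 37), (-1, 38)]

/-- all rows -/
def rows : List (List ℤ) := rowA ++ rowB

theorem okPL : okPrimes D PL = true := by decide +kernel

theorem okCL : ∀ y ∈ CL, chkP D y.1 y.2.1 (y.1 ^ y.2.1) seeds y.2.2 rows = true := by decide +kernel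

theorem allCL : allC PL CL 3 0 = true := by decide +kernel

theorem ok1 : chkP D 3 10 (3 ^ 10) seeds [ce1] ((sqT 3 5 sg1).map (comb rows)) = true := by decide +kernel

theorem ok2 : chkP D 3 10 (3 ^ 10) (seeds ++ [ntd rows [] 5]) [ce2] ((sqT 3 15 sg2).map (comb rows)) = true := by
  decide +kernel

theorem ok3 : chkP D 3 10 (3 ^ 10) (seeds ++ [ntd rows [] 5] ++ [ntd rows [] 15]) [ce3] rows = true := by
  decide +kernel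

theorem okR : Sm2.okRows D rowA rowB = true := by decide +kernel

section

variable {G : Type} [Group G] [Finite G] {T : TD G D}

theorem virt_seeds (hm : T.Mass) (hr : ON.Rat T) (hc : Virt T (nth chi)) : ∀ sd ∈ seeds, Virt T (nth sd) := by
  have h1 : Virt T (nth one) := (Virt.const 1).congr (by decide +kernel)
  have hI : Inh T := inh_of_mass hm (by decide +kernel)
  obtain ⟨x, hx⟩ := hI 36 (by decide)
  obtain ⟨y, hy⟩ := hI 37 (by decide)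
  simp only [seeds, List.forall_mem_cons, List.not_mem_nil, false_imp_iff, implies_true, and_true]
  exact ⟨hc, ON.virt_coad hm hr h1 (k := 2) (by decide +kernel), ON.virt_coad hm hr h1 (k := 3) (by decide +kernel),
    ON.virt_cyc hm hr x (by rw [hx]; decide +kernel), ON.virt_cyc hm hr y (by rw [hy]; decide +kernel)⟩

/-- **the table** -/
theorem tab_of (hm : T.Mass) (hr : ON.Rat T) (hc : Virt T (nth chi)) : Inh T ∧ Tab T (Sm2.mkRows rowA rowB) := by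
  have h0 := virt_seeds hm hr hc
  have h1 : ∀ l s, hasC CL l s = true → ∀ r ∈ rows, Eng.Good T l s (nth r) := fun l s h =>
    good_of_certs hm.1 h0 okCL h
  have key : ∀ {sd : List (List ℤ)} {c : Cert} {L : List (List (ℤ × ℕ))}, c.s = 0 → (∀ v ∈ sd, Virt T (nth v)) →
      chkP D 3 10 (3 ^ 10) sd [c] (L.map (comb rows)) = true → ∀ x ∈ L, Virt T (nth (comb rows x)) :=
    fun {sd c L} hc hs h x hx => virt_of_certs' hm.1 okPL allCL (fun l s h => Eng.Good.comb (h1 l s h) x)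
      (good_of_chkP hm.1 h hs 0 (by simp [hc]) _ (List.mem_map_of_mem hx))
  have app : ∀ {sd : List (List ℤ)} {w : List ℤ}, (∀ v ∈ sd, Virt T (nth v)) → Virt T (nth w) →
      ∀ v ∈ sd ++ [w], Virt T (nth v) := fun hs hw v hv =>
    (List.mem_append.1 hv).elim (hs v) fun h => List.mem_singleton.1 h ▸ hw
  have h2 := app h0 (virt_of_bes hm rfl (a := 8) (by decide) (by decide) (by decide) (by decide) (by decide +kernel)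
    (key rfl h0 ok1))
  have h3 := app h2 (virt_of_bes hm rfl (a := 4) (by decide) (by decide) (by decide) (by decide) (by decide +kernel)
    (key rfl h2 ok2))
  have h4 : ∀ i < 39, D.ord i = 1 → i = 0 := by decide +kernel
  exact ⟨inh_of_mass hm (by decide +kernel), Sm2.tab_of_rows hm (h4 _ (T.lt 1) ((T.ord 1).symm.trans orderOf_one))
    (fun r hr => virt_of_certs' hm.1 okPL allCL (fun l s h => h1 l s h r hr)
      (good_of_chkP hm.1 ok3 h3 0 (by decide) r hr)) okR⟩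

theorem van_of (hN : Nat.card G = D.N) (h : Inh T ∧ Tab T (Sm2.mkRows rowA rowB)) : VAN.Van3 G :=
  h.2.van3 h.1 hN [(2, 15), (3, 10), (5, 3), (7, 2), (13, 1), (19, 1), (31, 1)] (by decide +kernel) 27 35 38
    (by decide +kernel)

theorem odd_of (h : Inh T ∧ Tab T (Sm2.mkRows rowA rowB)) : OddRat G :=
  h.2.oddRat h.1 [23, 35, 38] (by decide +kernel) (by decide +kernel)

theorem sig_of (h : Inh T ∧ Tab T (Sm2.mkRows rowA rowB)) (h1 : SigConj T 34) (h2 : SigConj T 38) : OddSig G :=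
  h.2.oddSig h.1 [(35, 0, 31, 8)] (by decide +kernel) [34, 38] (by simp [h1, h2]) (by decide +kernel)

omit [Finite G] in
theorem deg_of (h : Tab T (Sm2.mkRows rowA rowB)) : DegList G [1, 248, 4123, 30628, 30875, 61256, 147250, 957125,
    2450240, 2572752, 3376737, 4123000, 4881384, 4936750, 10822875, 11577384, 16539120, 18154500, 28861000, 30507008,
    40199250, 44330496, 51684750, 72925515, 76271625, 77376000, 81153009, 91171899, 111321000, 190373976, 27000, 27000,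
    85995, 85995, 767637, 767637, 779247, 779247, 1707264, 1707264, 4096000, 4096000, 6669000, 6669000, 6696000,
    6696000, 21326760, 21326760] := by
  refine Eq.subst (motive := DegList G) ?_ h.degList
  decide +kernel

end

end Cfsg.Agent.TAB.Th
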