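import Cfsg.Agent.TAB.Th.Slp

/-!
# Traces of the powers of the representatives (helper98, TAB)
-/

set_option autoImplicit false
set_option Elab.async false
set_option maxRecDepth 100000

namespace Cfsg.Agent.TAB.Th

open Cfsg Cfsg.Agent.Th.Word Cfsg.Agent.Th.IndexUpper

theorem fct29 : ∀ q ∈ (1, 7936) :: exps [(0, 0, 8000), (0, 1, 7936), (1, 1, 7872), (1, 1, 8192), (1, 1, 8384)] [1], Fct (ev gTh [3, 4, 8] ^ q.1) q.2 :=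
  (rt_evL 3 [4, 8]).slp (by decide +kernel)

theorem fct30 : ∀ q ∈ (1, 7936) :: exps [(0, 0, 7936), (0, 1, 7936), (1, 1, 8064), (1, 1, 7936), (1, 1, 7808)] [1], Fct (ev gTh [4, 7, 10] ^ q.1) q.2 :=
  (rt_evL 4 [7, 10]).slp (by decide +kernel)

theorem fct25 : ∀ q ∈ (1, 7872) :: exps [(0, 0, 8000), (0, 1, 7968), (0, 0, 8096)] [1], Fct (ev gTh [1, 4, 5, 6] ^ q.1) q.2 :=
  (rt_evL 1 [4, 5, 6]).slp (by decide +kernel)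

theorem fct33 : ∀ q ∈ (1, 7968) :: exps [(0, 0, 7904), (0, 1, 0), (1, 1, 8032), (0, 1, 8192)] [1], Fct (ev gTh [3, 4, 5, 7] ^ q.1) q.2 :=
  (rt_evL 3 [4, 5, 7]).slp (by decide +kernel)

theorem fct34 : ∀ q ∈ (1, 7904) :: exps [(0, 0, 7968), (0, 1, 8000), (0, 1, 8064), (1, 1, 7872), (1, 1, 7808)] [1], Fct (ev gTh [4, 5, 7, 11] ^ q.1) q.2 :=
  (rt_evL 4 [5, 7, 11]).slp (by decide +kernel)

theorem fct36 : ∀ q ∈ (1, 7904) :: exps [(0, 0, 7968), (0, 1, 7904), (1, 1, 8096), (1, 1, 7968), (0, 2, 8192), (1, 1, 8096)] [1], Fct (ev gTh [4, 5, 8, 10, 6] ^ q.1) q.2 :=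
  (rt_evL 4 [5, 8, 10, 6]).slp (by decide +kernel)

theorem fct37 : ∀ q ∈ (1, 7904) :: exps [(0, 0, 7968), (0, 1, 7904), (1, 1, 8096), (1, 1, 7968), (0, 2, 8192), (1, 1, 8096)] [1], Fct (ev gTh [4, 5, 10, 7] ^ q.1) q.2 :=
  (rt_evL 4 [5, 10, 7]).slp (by decide +kernel)

theorem fct27 : ∀ q ∈ (1, 7936) :: exps [(0, 0, 8000), (0, 0, 7872), (0, 2, 7936)] [1], Fct (ev gTh [4, 6, 8, 10] ^ q.1) q.2 :=
  (rt_evL 4 [6, 8, 10]).slp (by decide +kernel)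

theorem fct28 : ∀ q ∈ (1, 7936) :: exps [(0, 0, 0), (0, 1, 8032), (0, 0, 0), (0, 3, 8384), (0, 0, 0), (0, 1, 1)] [1], Fct (ev gTh [2, 3, 6] ^ q.1) q.2 :=
  (rt_evL 2 [3, 6]).slp (by decide +kernel)

theorem fct38 : ∀ q ∈ (1, 7968) :: exps [(0, 0, 0), (0, 1, 7968), (0, 0, 0), (0, 0, 0), (0, 4, 8384), (0, 0, 0), (0, 1, 1)] [1], Fct (ev gTh [2, 11, 4, 11, 8] ^ q.1) q.2 :=
  (rt_evL 2 [11, 4, 11, 8]).slp (by decide +kernel)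

theorem fct26 : ∀ q ∈ (1, 7968) :: exps [(0, 0, 0), (0, 0, 0), (0, 0, 0), (0, 3, 0), (0, 0, 0), (0, 5, 1)] [1], Fct (ev gTh [2, 4, 5, 7, 11] ^ q.1) q.2 :=
  (rt_evL 2 [4, 5, 7, 11]).slp (by decide +kernel)

theorem fct35 : ∀ q ∈ (1, 7936) :: exps [(0, 0, 0), (0, 1, 0), (0, 0, 0), (0, 3, 0), (0, 0, 0), (0, 5, 0), (0, 0, 0), (0, 7, 1)] [1], Fct (ev gTh [2, 3, 5, 7, 11, 4] ^ q.1) q.2 :=
  (rt_evL 2 [3, 5, 7, 11, 4]).slp (by decide +kernel)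

theorem fct2 : ∀ q ∈ (1, 8384) :: exps [] [1], Fct (ev gTh [8] ^ q.1) q.2 :=
  (rt_evL 8 []).slp (by decide +kernel)

theorem fct3 : ∀ q ∈ (1, 8096) :: exps [] [1], Fct (ev gTh [4, 5] ^ q.1) q.2 :=
  (rt_evL 4 [5]).slp (by decide +kernel)

theorem fct4 : ∀ q ∈ (1, 7808) :: exps [] [1], Fct (ev gTh [4, 8, 10, 4, 10] ^ q.1) q.2 :=
  (rt_evL 4 [8, 10, 4, 10]).slp (by decide +kernel)

end Cfsg.Agent.TAB.Th
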