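import Cfsg.Agent.TAB.Th.Syl

/-!
# The elements of order 9 and 27 with a given cube in the Thompson group (helper98, TAB)
-/

set_option autoImplicit false
set_option Elab.async false
set_option maxRecDepth 100000

namespace Cfsg.Agent.TAB.Th

open Cfsg Cfsg.Agent.TAB.Co Cfsg.Agent.H777.Th3 Cfsg.Agent.H777.Th3.Dat Cfsg.Agent.H894.ThThree Cfsg.Agent.H894.ThLine

/-- type 27A -/
def qA : V5 := (1, 0, 1, 0, 1)

/-- type 27BC -/
def qB : V5 := (1, 0, 0, 0, 1)

theorem zA1 : zW qA [6, 6, 7, 7, 9] (1, 1, 2, 1, 0) (1, 0, 1, 1, 1) true = true := by decide +kernel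

theorem zA2 : zW qA [2, 5, 6, 7, 7] (0, 1, 1, 2, 0) (1, 0, 1, 2, 1) true = true := by decide +kernel

theorem zB1 : zW qB [2, 6, 6, 7, 9] (2, 0, 2, 2, 0) (1, 0, 0, 1, 1) true = true := by decide +kernel

theorem zB2 : zW qB [5, 6, 7, 7] (0, 2, 1, 1, 0) (1, 0, 0, 2, 1) true = true := by decide +kernel

theorem zB3 : zW qB [10, 6, 11, 11, 10, 4, 6, 8, 9, 9] (0, 0, 1, 0, 0) (0, 2, 1, 0, 1) false = true := by decide +kernel

theorem zB4 : zW qB [10, 5, 10, 6, 10, 2, 2, 5, 8, 9] (0, 0, 0, 2, 0) (0, 2, 1, 1, 1) false = true := by decide +kernel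

theorem zB5 : zW qB [10, 5, 10, 6, 10, 3] (0, 2, 2, 1, 0) (0, 2, 1, 2, 1) false = true := by decide +kernel

theorem z0 (q : V5) : RC (tw thDat q) (thDat.uu 0 * tw thDat q) ∧ (thDat.uu 0 * tw thDat q) ^ 3 = tw thDat q ^ 3 := by
  rw [uu_zero, one_mul]
  exact ⟨RC.of_conj (IsConj.refl _), rfl⟩

theorem fibA : 3 * 9 ≤ Nat.card {g // RC (tw thDat qA) g ∧ g ^ 3 = tw thDat qA ^ 3} :=
  fib27 th_u1_ne ![0, (1, 1, 2, 1, 0), (0, 1, 1, 2, 0)] ![qA, (1, 0, 1, 1, 1), (1, 0, 1, 2, 1)] (by decide +kernel)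
    (fun k => match k with
      | 0 => z0 qA
      | 1 => zW_spec (by decide) zA1
      | 2 => zW_spec (by decide) zA2) (by decide +kernel)

theorem fibB : 6 * 9 ≤ Nat.card {g // RC (tw thDat qB) g ∧ g ^ 3 = tw thDat qB ^ 3} :=
  fib27 th_u1_ne ![0, (2, 0, 2, 2, 0), (0, 2, 1, 1, 0), (0, 0, 1, 0, 0), (0, 0, 0, 2, 0), (0, 2, 2, 1, 0)]
    ![qB, (1, 0, 0, 1, 1), (1, 0, 0, 2, 1), (0, 2, 1, 0, 1), (0, 2, 1, 1, 1), (0, 2, 1, 2, 1)] (by decide +kernel)
    (fun k => match k with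
      | 0 => z0 qB
      | 1 => zW_spec (by decide) zB1
      | 2 => zW_spec (by decide) zB2
      | 3 => zW_spec (by decide) zB3
      | 4 => zW_spec (by decide) zB4
      | 5 => zW_spec (by decide) zB5) (by decide +kernel)

theorem rel9 {j : ℕ} {e : V5} (hj : j < 26) (h : Nat.beq (mw (nf 0 q9 ++ [j])) (mw ([j] ++ nf e q9)) = true) :
    tw thDat q9 * PG j = PG j * (thDat.uu e * tw thDat q9) := by
  have h1 := eq_w (fun k hk => by
    simp only [List.mem_append, List.mem_singleton] at hk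
    rcases hk with (hk | rfl) | rfl | hk
    exacts [nf_lt k hk, hj, hj, nf_lt k hk]) h
  rwa [wpg_append, wpg_append, wpg_nf, wpg_nf, uu_zero, one_mul, wpg, wpg, mul_one] at h1

theorem rel95 : Nat.beq (mw (nf 0 q9 ++ [5])) (mw ([5] ++ nf (2, 0, 1, 2, 0) q9)) = true := by decide +kernel

theorem rel96 : Nat.beq (mw (nf 0 q9 ++ [6])) (mw ([6] ++ nf (2, 0, 0, 2, 1) q9)) = true := by decide +kernel

theorem rel98 : Nat.beq (mw (nf 0 q9 ++ [8])) (mw ([8] ++ nf (2, 0, 0, 2, 0) q9)) = true := by decide +kernel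

theorem cub9 : Nat.beq (mw (nf 0 q9 ++ (nf 0 q9 ++ nf 0 q9))) (mw [0, 0]) = true := by decide +kernel

theorem cube9 : tw thDat q9 ^ 3 = thDat.u1 ^ 2 := by
  have h1 := eq_w (by decide +kernel) cub9
  rwa [wpg_append, wpg_append, wpg_nf, uu_zero, one_mul, wpg, wpg, wpg, mul_one, ← pow_three, ← pow_two] at h1

/-- the conjugating words -/
def cw9 : Fin 4 → List ℕ := ![[], [11, 11, 10], [11, 11, 10, 5, 7], [11, 11, 10, 5, 7, 5, 7]]

/-- the conjugates of `u2` -/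
def gu9 : Fin 4 → Fin 4 → V5 := ![![0, (0, 1, 1, 2, 1), (0, 0, 1, 2, 1), (0, 2, 1, 2, 1)],
  ![0, 0, (0, 0, 1, 2, 1), (0, 2, 2, 1, 2)], ![0, 0, 0, (0, 0, 1, 2, 1)], ![0, 0, 0, 0]]

theorem cw9_lt : ∀ i, ∀ k ∈ cw9 i, k < 26 := by decide +kernel

/-- the check for `u1` -/
noncomputable def cu1 (i : Fin 4) : Bool := Nat.beq (mw ([0] ++ cw9 i)) (mw (cw9 i ++ [0]))

theorem cu1_spec {i : Fin 4} (h : cu1 i = true) : thDat.u1 * wpg PG (cw9 i) = wpg PG (cw9 i) * thDat.u1 := by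
  have h1 := eq_w (by clear h; revert i; decide +kernel) h
  rwa [wpg_append, wpg_append, wpg, wpg, mul_one] at h1

/-- the check for `u2` -/
noncomputable def cu2 (i j : Fin 4) : Bool :=
  Nat.beq (mw ([1] ++ (cw9 j ++ iwp (cw9 i)))) (mw ((cw9 j ++ iwp (cw9 i)) ++ nf (gu9 i j) 0))

theorem cu2_spec {i j : Fin 4} (h : cu2 i j = true) : thDat.u2 * (wpg PG (cw9 j) * (wpg PG (cw9 i))⁻¹) =
    wpg PG (cw9 j) * (wpg PG (cw9 i))⁻¹ * thDat.uu (gu9 i j) := by
  have h1 := eq_w (by clear h; revert i j; decide +kernel) h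
  rwa [wpg_append, wpg_append (cw9 j ++ _), wpg_append, wpg_iwp (cw9_lt i), wpg_nf, show tw thDat 0 = 1 from tt_zero, wpg, wpg,
    mul_one, mul_one] at h1

attribute [irreducible] cu1 cu2

theorem cu10 : cu1 0 = true := by decide +kernel
theorem cu11 : cu1 1 = true := by decide +kernel
theorem cu12 : cu1 2 = true := by decide +kernel
theorem cu13 : cu1 3 = true := by decide +kernel
theorem cu201 : cu2 0 1 = true := by decide +kernel
theorem cu202 : cu2 0 2 = true := by decide +kernel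
theorem cu203 : cu2 0 3 = true := by decide +kernel
theorem cu212 : cu2 1 2 = true := by decide +kernel
theorem cu213 : cu2 1 3 = true := by decide +kernel
theorem cu223 : cu2 2 3 = true := by decide +kernel

theorem fibC : 2916 ≤ Nat.card {g // RC (tw thDat q9) g ∧ g ^ 3 = tw thDat q9 ^ 3} :=
  fib9 th_u1_ne (cj_coset (rel9 (by decide) rel95) (rel9 (by decide) rel96) (rel9 (by decide) rel98)) cube9
    (fun i => wpg PG (cw9 i)) (fun i => cu1_spec (match i with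
      | 0 => cu10
      | 1 => cu11
      | 2 => cu12
      | 3 => cu13)) gu9 (fun i j h => cu2_spec (match i, j, h with
      | 0, 1, _ => cu201
      | 0, 2, _ => cu202
      | 0, 3, _ => cu203
      | 1, 2, _ => cu212
      | 1, 3, _ => cu213
      | 2, 3, _ => cu223
      | 3, j, h => absurd h (not_lt.2 (Fin.le_last j)))) (by decide +kernel)

end Cfsg.Agent.TAB.Th
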